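import Cfsg.Agent.Lib.Subnormal.MinimalNormal
import Mathlib.GroupTheory.Nilpotent
import Mathlib.GroupTheory.Sylow
import Mathlib.Data.Set.Finite.Lemmas
import Mathlib.Data.Set.Card
import Mathlib.Algebra.Group.Subgroup.Pointwise

/-!
Wielandt's join theorem for subnormal subgroups and consequences (zipper lemmas, Matsuyama).
-/

set_option autoImplicit false

open Subgroup
open scoped Pointwise

namespace CfsgLib.Subnormal

universe u

theorem mem_normalizer_iff_smul {G : Type*} [Group G] {g : G} {H : Subgroup G} :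
    g ∈ normalizer (H : Set G) ↔ MulAut.conj g • H = H :=
  mem_normalizer_iff_map_conj_eq

theorem mem_normalizer_of_smul_le {G : Type*} [Group G] [Finite G] {g : G} {H : Subgroup G}
    (h : MulAut.conj g • H ≤ H) : g ∈ normalizer (H : Set G) :=
  mem_normalizer_iff_smul.mpr
    (eq_of_le_of_card_ge h (Nat.card_congr (equivSMul (MulAut.conj g) H).toEquiv).le)

theorem normalizer_inf_le_normalizer_sup {G : Type*} [Group G] (A B : Subgroup G) :
    normalizer (A : Set G) ⊓ normalizer (B : Set G) ≤ normalizer ((A ⊔ B : Subgroup G) : Set G) := by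
  intro g hg
  rw [mem_inf, mem_normalizer_iff_smul, mem_normalizer_iff_smul] at hg
  rw [mem_normalizer_iff_smul, smul_sup, hg.1, hg.2]

private theorem sup_aux : ∀ (n : ℕ) (G : Type u) [Group G] [Finite G], Nat.card G ≤ n →
    ∀ A B : Subgroup G, A.IsSubnormal → B.IsSubnormal → (A ⊔ B).IsSubnormal := by
  intro n
  induction n with
  | zero => intro G _ _ h; have := Nat.card_pos (α := G); omega
  | succ n ih =>
    intro G _ _ hcard A B hA hB
    cases subsingleton_or_nontrivial G with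
    | inl h => rw [Subsingleton.elim (A ⊔ B) ⊤]; exact IsSubnormal.top
    | inr h =>
      obtain ⟨M, ⟨hMn, hM0⟩, hMmin⟩ := Set.Finite.exists_minimal
        (Set.toFinite {M : Subgroup G | M.Normal ∧ M ≠ ⊥}) ⟨⊤, inferInstance, top_ne_bot⟩
      have hmin : ∀ C : Subgroup G, C.Normal → C ≠ ⊥ → C ≤ M → C = M := fun C hC hC0 hle =>
        le_antisymm hle (hMmin ⟨hC, hC0⟩ hle)
      have hlt : Nat.card (G ⧸ M) < Nat.card G := by
        rw [card_eq_card_quotient_mul_card_subgroup M]
        exact lt_mul_of_one_lt_right Nat.card_pos ((one_lt_card_iff_ne_bot M).mpr hM0)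
      have hq := ih (G ⧸ M) (by omega) _ _ (hA.quotient (K := M)) (hB.quotient (K := M))
      rw [← Subgroup.map_sup] at hq
      have hq' := hq.comap (QuotientGroup.mk' M)
      rw [comap_map_eq, QuotientGroup.ker_mk'] at hq'
      refine IsSubnormal.step _ _ le_sup_left hq' ?_
      exact normal_subgroupOf_of_le_normalizer (sup_le le_normalizer
        (le_trans (le_inf (minimalNormal_le_normalizer M hMn hM0 hmin hA)
          (minimalNormal_le_normalizer M hMn hM0 hmin hB)) (normalizer_inf_le_normalizer_sup A B)))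

/-- **Wielandt's join theorem.** -/
theorem isSubnormal_sup {G : Type u} [Group G] [Finite G] {A B : Subgroup G}
    (hA : A.IsSubnormal) (hB : B.IsSubnormal) : (A ⊔ B).IsSubnormal :=
  sup_aux _ G le_rfl A B hA hB

theorem isSubnormal_sSup {G : Type u} [Group G] [Finite G] {S : Set (Subgroup G)}
    (hS : ∀ U ∈ S, U.IsSubnormal) : (sSup S).IsSubnormal := by
  induction S, Set.toFinite S using Set.Finite.induction_on with
  | empty => rw [sSup_empty]; exact IsSubnormal.bot
  | @insert a s _ _ ih =>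
    rw [sSup_insert]
    exact isSubnormal_sup (hS a (Set.mem_insert a s)) (ih fun U hU => hS U (Set.mem_insert_of_mem a hU))

/-- A non-normal subnormal subgroup is normalised by a different conjugate of itself. -/
theorem exists_conj_le_normalizer {G : Type u} [Group G] [Finite G] {T : Subgroup G}
    (hT : T.IsSubnormal) : normalizer (T : Set G) = ⊤ ∨
      ∃ g : G, g ∉ normalizer (T : Set G) ∧ MulAut.conj g • T ≤ normalizer (T : Set G) := by
  have key : ∀ K : Subgroup G, K.IsSubnormal → T ≤ K → K ≤ normalizer (T : Set G) →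
      normalizer (T : Set G) = ⊤ ∨
      ∃ g : G, g ∉ normalizer (T : Set G) ∧ MulAut.conj g • T ≤ normalizer (T : Set G) := by
    intro K hK
    induction hK with
    | top => intro _ h; exact Or.inl (top_le_iff.mp h)
    | step H L hle _ hN ih =>
      intro hTH hHN
      by_cases hL : L ≤ normalizer (T : Set G)
      · exact ih (hTH.trans hle) hL
      · obtain ⟨g, hgL, hg⟩ := SetLike.not_le_iff_exists.mp hL
        refine Or.inr ⟨g, hg, le_trans ?_ hHN⟩
        calc MulAut.conj g • T ≤ MulAut.conj g • H := pointwise_smul_le_pointwise_smul_iff.mpr hTH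
          _ = H := mem_normalizer_iff_smul.mp ((normal_subgroupOf_iff_le_normalizer hle).mp hN hgL)
  exact key T hT le_rfl le_normalizer

/-- A member outside a subfamily normalises the join of the subfamily. -/
theorem exists_mem_le_normalizer {G : Type u} [Group G] [Finite G] (S S₀ : Set (Subgroup G))
    (hS : ∀ U ∈ S, U.IsSubnormal) (hconj : ∀ U ∈ S, ∀ g : G, MulAut.conj g • U ∈ S)
    (h₀ : S₀ ⊂ S) : ∃ X ∈ S, X ∉ S₀ ∧ X ≤ normalizer ((sSup S₀ : Subgroup G) : Set G) := by
  by_cases hin : ∀ U ∈ S, U ≤ sSup S₀ → U ∈ S₀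
  swap
  · push Not at hin
    obtain ⟨U, hU, hUT, hU0⟩ := hin
    exact ⟨U, hU, hU0, hUT.trans le_normalizer⟩
  rcases exists_conj_le_normalizer (isSubnormal_sSup fun U hU => hS U (h₀.1 hU)) with h | ⟨g, hg, hle⟩
  · obtain ⟨X, hX, hX0⟩ := Set.exists_of_ssubset h₀
    exact ⟨X, hX, hX0, h.symm ▸ le_top⟩
  · obtain ⟨U, hU, hUT⟩ : ∃ U ∈ S₀, ¬ MulAut.conj g • U ≤ sSup S₀ := by
      by_contra hall
      push Not at hall
      refine hg (mem_normalizer_of_smul_le ?_)
      rw [pointwise_smul_subset_iff]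
      refine sSup_le fun U hU => ?_
      rw [← pointwise_smul_subset_iff]
      exact hall U hU
    exact ⟨_, hconj U (h₀.1 hU) g, fun h => hUT (le_sSup h),
      (pointwise_smul_le_pointwise_smul_iff.mpr (le_sSup hU)).trans hle⟩

/-- Relative form inside a subgroup `V`. -/
theorem exists_mem_le_normalizer_rel {G : Type u} [Group G] [Finite G] (V : Subgroup G)
    (S S₀ : Set (Subgroup G)) (hle : ∀ U ∈ S, U ≤ V)
    (hS : ∀ U ∈ S, (U.subgroupOf V).IsSubnormal)
    (hconj : ∀ U ∈ S, ∀ v ∈ V, MulAut.conj v • U ∈ S) (h₀ : S₀ ⊂ S) :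
    ∃ X ∈ S, X ∉ S₀ ∧ X ≤ normalizer ((sSup S₀ : Subgroup G) : Set G) := by
  have hinj : ∀ U ∈ S, ∀ W ∈ S, U.subgroupOf V = W.subgroupOf V → U = W := fun U hU W hW h => by
    rw [← map_subgroupOf_eq_of_le (hle U hU), ← map_subgroupOf_eq_of_le (hle W hW), h]
  have hss : (fun U : Subgroup G => U.subgroupOf V) '' S₀ ⊂ (fun U => U.subgroupOf V) '' S := by
    refine ⟨Set.image_mono h₀.1, fun h => ?_⟩
    obtain ⟨U, hU, hU0⟩ := Set.exists_of_ssubset h₀
    obtain ⟨W, hW, hWU⟩ := h ⟨U, hU, rfl⟩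
    exact hU0 (hinj W (h₀.1 hW) U hU hWU ▸ hW)
  obtain ⟨_, ⟨X, hX, rfl⟩, hX0, hXN⟩ := exists_mem_le_normalizer
    ((fun U : Subgroup G => U.subgroupOf V) '' S) ((fun U => U.subgroupOf V) '' S₀)
    (by rintro _ ⟨U, hU, rfl⟩; exact hS U hU)
    (by
      rintro _ ⟨U, hU, rfl⟩ v
      refine ⟨_, hconj U hU v v.2, ?_⟩
      ext x
      simp [mem_subgroupOf, mem_pointwise_smul_iff_inv_smul_mem, MulAut.smul_def, ← map_inv]) hss
  refine ⟨X, hX, fun h => hX0 ⟨X, h, rfl⟩, ?_⟩
  have h1 := (map_mono (f := V.subtype) hXN).trans (le_normalizer_map V.subtype)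
  rw [map_subgroupOf_eq_of_le (hle X hX)] at h1
  have h2 : (sSup ((fun U : Subgroup G => U.subgroupOf V) '' S₀)).map V.subtype = sSup S₀ := by
    rw [sSup_image, Subgroup.map_iSup, sSup_eq_iSup]
    refine iSup_congr fun U => ?_
    rw [Subgroup.map_iSup]
    exact iSup_congr fun hU => map_subgroupOf_eq_of_le (hle U (h₀.1 hU))
  rwa [h2] at h1

/-- A zipper lemma: uniqueness of the maximal member. -/
theorem exists_greatest {G : Type u} [Group G] [Finite G] (A : Subgroup G) (U : Set (Subgroup G))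
    (hU : U.Nonempty) (S : Subgroup G → Set (Subgroup G))
    (hS : ∀ V B : Subgroup G, B ∈ S V ↔
      (∃ g : G, B = MulAut.conj g • A) ∧ B ≤ V ∧ (B.subgroupOf V).IsSubnormal)
    (h2 : ∀ V ∈ U, ∀ W ∈ U, ∀ B ∈ S W, B ≤ V → B ∈ S V)
    (h3 : ∀ V ∈ U, ∀ W ∈ U, ∃ X ∈ U,
      normalizer ((sSup (S V ∩ S W) : Subgroup G) : Set G) ≤ X) :
    ∃ M ∈ U, ∀ V ∈ U, V ≤ M := by
  have habove : ∀ V ∈ U, ∃ M, V ≤ M ∧ Maximal (· ∈ U) M := fun V hV =>
    exists_maximal_ge_of_wellFoundedGT (· ∈ U) V hV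
  have hconj : ∀ V : Subgroup G, ∀ B ∈ S V, ∀ v ∈ V, MulAut.conj v • B ∈ S V := by
    intro V B hB v hv
    obtain ⟨⟨g, rfl⟩, hBV, hsn⟩ := (hS V B).mp hB
    refine (hS V _).mpr ⟨⟨v * g, by rw [map_mul, mul_smul]⟩, ?_, ?_⟩
    · calc MulAut.conj v • (MulAut.conj g • A) ≤ MulAut.conj v • V :=
            pointwise_smul_le_pointwise_smul_iff.mpr hBV
        _ = V := mem_normalizer_iff_smul.mp (le_normalizer hv)
    · have he : (MulAut.conj v • (MulAut.conj g • A)).subgroupOf V =
          MulAut.conj (⟨v, hv⟩ : V) • (MulAut.conj g • A).subgroupOf V := by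
        ext x
        simp [mem_subgroupOf, mem_pointwise_smul_iff_inv_smul_mem, MulAut.smul_def, ← map_inv]
      rw [he]
      exact hsn.smul _
  suffices huniq : ∀ V W, Maximal (· ∈ U) V → Maximal (· ∈ U) W → V = W by
    obtain ⟨V, hV⟩ := hU
    obtain ⟨M, -, hM⟩ := habove V hV
    refine ⟨M, hM.prop, fun W hW => ?_⟩
    obtain ⟨M', hle, hM'⟩ := habove W hW
    exact huniq M M' hM hM' ▸ hle
  by_contra hne
  push Not at hne
  obtain ⟨V₀, W₀, hV₀, hW₀, hne₀⟩ := hne
  obtain ⟨⟨V, W⟩, ⟨hV, hW, hVW⟩, hmax⟩ := Set.exists_max_image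
    {q : Subgroup G × Subgroup G | Maximal (· ∈ U) q.1 ∧ Maximal (· ∈ U) q.2 ∧ q.1 ≠ q.2}
    (fun q => (S q.1 ∩ S q.2).ncard) (Set.toFinite _) ⟨(V₀, W₀), hV₀, hW₀, hne₀⟩
  dsimp only at hV hW hVW hmax
  obtain ⟨X₀, hX₀, hN⟩ := h3 V hV.prop W hW.prop
  obtain ⟨X, hle, hX⟩ := habove X₀ hX₀
  have hNX := hN.trans hle
  have step : ∀ V₁, Maximal (· ∈ U) V₁ → S V ∩ S W ⊆ S V₁ → X = V₁ := by
    intro V₁ hV₁ hsub
    by_contra hne₁
    rcases hsub.eq_or_ssubset with heq | hss
    · refine hne₁ (hV₁.eq_of_ge hX.prop ?_)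
      refine le_trans (fun v hv => mem_normalizer_of_smul_le ?_) hNX
      rw [pointwise_smul_subset_iff]
      refine sSup_le fun B hB => ?_
      rw [← pointwise_smul_subset_iff]
      exact le_sSup (heq ▸ hconj V₁ B (heq ▸ hB) v hv)
    · obtain ⟨B, hB, hB0, hBN⟩ := exists_mem_le_normalizer_rel V₁ (S V₁) _
        (fun B hB => ((hS V₁ B).mp hB).2.1) (fun B hB => ((hS V₁ B).mp hB).2.2) (hconj V₁) hss
      have hsub' : insert B (S V ∩ S W) ⊆ S X ∩ S V₁ := by
        rintro C (rfl | hC)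
        · exact ⟨h2 X hX.prop V₁ hV₁.prop C hB (hBN.trans hNX), hB⟩
        · exact ⟨h2 X hX.prop V₁ hV₁.prop C (hsub hC)
            (((le_sSup hC).trans le_normalizer).trans hNX), hsub hC⟩
      have h4 := hmax (X, V₁) ⟨hX, hV₁, hne₁⟩
      have h5 := Set.ncard_le_ncard hsub' (Set.toFinite _)
      rw [Set.ncard_insert_of_notMem hB0 (Set.toFinite _)] at h5
      dsimp only at h4
      omega
  exact hVW ((step V hV Set.inter_subset_left).symm.trans (step W hW Set.inter_subset_right))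

/-- Under the normalizer condition every subgroup is subnormal. -/
theorem isSubnormal_of_normalizerCondition {G : Type u} [Group G] [Finite G]
    (h : NormalizerCondition G) (H : Subgroup G) : H.IsSubnormal := by
  induction H using (wellFounded_gt (α := Subgroup G)).induction with
  | h H ih =>
    rcases eq_or_ne H ⊤ with rfl | hH
    · exact IsSubnormal.top
    · exact IsSubnormal.step H _ le_normalizer (ih _ (h H hH.lt_top)) normal_in_normalizer

/-- **Matsuyama's lemma.** -/
theorem exists_sylow_weakClosure_normalized {G : Type u} [Group G] [Finite G] (p : ℕ)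
    [Fact p.Prime] (Z Y : Subgroup G)
    (h : ∀ g : G, IsPGroup p ↥(⨆ y ∈ Y, MulAut.conj (y * g) • Z)) :
    ∃ P : Sylow p G, Y ≤ normalizer ((⨆ g ∈ {g : G | MulAut.conj g • Z ≤ (P : Subgroup G)},
      MulAut.conj g • Z : Subgroup G) : Set G) := by
  obtain ⟨T, ⟨hTp, hYT, hTgen⟩, hTmax⟩ := Set.Finite.exists_maximal (Set.toFinite
    {T : Subgroup G | IsPGroup p T ∧ Y ≤ normalizer (T : Set G) ∧
      T ≤ sSup {B | (∃ g : G, B = MulAut.conj g • Z) ∧ B ≤ T}})
    ⟨⊥, IsPGroup.of_bot, by rw [normalizer_eq_top]; exact le_top, bot_le⟩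
  obtain ⟨P, hTP⟩ := hTp.exists_le_sylow
  refine ⟨P, ?_⟩
  set S : Set (Subgroup G) := {B | (∃ g : G, B = MulAut.conj g • Z) ∧ B ≤ (P : Subgroup G)}
  set S₀ : Set (Subgroup G) := {B | (∃ g : G, B = MulAut.conj g • Z) ∧ B ≤ T}
  have hST : sSup S₀ = T := le_antisymm (sSup_le fun B hB => hB.2) hTgen
  have hsub : S₀ ⊆ S := fun B hB => ⟨hB.1, hB.2.trans hTP⟩
  have hW : (⨆ g ∈ {g : G | MulAut.conj g • Z ≤ (P : Subgroup G)}, MulAut.conj g • Z) = sSup S := by
    refine le_antisymm (iSup₂_le fun g hg => le_sSup ⟨⟨g, rfl⟩, hg⟩) (sSup_le ?_)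
    rintro B ⟨⟨g, rfl⟩, hB⟩
    exact le_iSup₂ (f := fun g (_ : g ∈ {g : G | MulAut.conj g • Z ≤ (P : Subgroup G)}) =>
      MulAut.conj g • Z) g hB
  rcases hsub.eq_or_ssubset with heq | hss
  · rw [hW, ← heq, hST]
    exact hYT
  exfalso
  have hP : Group.IsNilpotent (P : Subgroup G) := P.2.isNilpotent
  obtain ⟨X, hX, hX0, hXN⟩ := exists_mem_le_normalizer_rel (P : Subgroup G) S S₀
    (fun B hB => hB.2)
    (fun B _ => isSubnormal_of_normalizerCondition Group.normalizerCondition_of_isNilpotent _)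
    (fun B hB v hv => by
      obtain ⟨⟨g, rfl⟩, hB'⟩ := hB
      refine ⟨⟨v * g, by rw [map_mul, mul_smul]⟩, ?_⟩
      calc MulAut.conj v • (MulAut.conj g • Z) ≤ MulAut.conj v • (P : Subgroup G) :=
            pointwise_smul_le_pointwise_smul_iff.mpr hB'
        _ = P := mem_normalizer_iff_smul.mp (le_normalizer hv)) hss
  rw [hST] at hXN
  obtain ⟨⟨g, rfl⟩, -⟩ := hX
  set R : Subgroup G := ⨆ y ∈ Y, MulAut.conj (y * g) • Z
  have hRN : R ≤ normalizer (T : Set G) := iSup₂_le fun y hy => by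
    rw [map_mul, mul_smul]
    calc MulAut.conj y • (MulAut.conj g • Z) ≤ MulAut.conj y • normalizer (T : Set G) :=
          pointwise_smul_le_pointwise_smul_iff.mpr hXN
      _ = normalizer (T : Set G) := mem_normalizer_iff_smul.mp (le_normalizer (hYT hy))
  have hYR : Y ≤ normalizer (R : Set G) := fun y hy => mem_normalizer_of_smul_le (by
    rw [pointwise_smul_subset_iff]
    refine iSup₂_le fun z hz => ?_
    rw [← pointwise_smul_subset_iff, ← mul_smul, ← map_mul, ← mul_assoc]
    exact le_iSup₂ (f := fun w (_ : w ∈ Y) => MulAut.conj (w * g) • Z) (y * z) (Y.mul_mem hy hz))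
  have hle : T ⊔ R ≤ T := hTmax ⟨hTp.to_sup_of_normal_left' (h g) hRN,
    le_trans (le_inf hYT hYR) (normalizer_inf_le_normalizer_sup T R),
    sup_le (hTgen.trans (sSup_le_sSup fun B hB => ⟨hB.1, hB.2.trans le_sup_left⟩))
      (iSup₂_le fun y hy => le_sSup ⟨⟨y * g, rfl⟩,
        (le_iSup₂ (f := fun w (_ : w ∈ Y) => MulAut.conj (w * g) • Z) y hy).trans le_sup_right⟩)⟩
    le_sup_left
  refine hX0 ⟨⟨g, rfl⟩, ?_⟩
  have h1 := le_iSup₂ (f := fun w (_ : w ∈ Y) => MulAut.conj (w * g) • Z) 1 Y.one_mem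
  rw [one_mul] at h1
  exact h1.trans (le_sup_right.trans hle)

/-- A Sylow subgroup meets a subnormal subgroup in a Sylow subgroup. -/
theorem card_inf_sylow {G : Type u} [Group G] [Finite G] (p : ℕ) [Fact p.Prime] {H : Subgroup G}
    (hH : H.IsSubnormal) (S : Sylow p G) :
    Nat.card (H ⊓ (S : Subgroup G) : Subgroup G) = p ^ (Nat.card H).factorization p := by
  induction hH with
  | top => rw [top_inf_eq, Subgroup.card_top]; exact S.card_eq_multiplicity
  | step H K hle _ hN ih =>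
    have hQK : Nat.card ((S : Subgroup G).subgroupOf K) = p ^ (Nat.card K).factorization p := by
      rw [← card_map_of_injective K.subtype_injective, subgroupOf_map_subtype, inf_comm]
      exact ih
    set Q : Sylow p K := Sylow.ofCard _ hQK with hQ
    set H' := H.subgroupOf K with hH'
    have hc' : Nat.card H' = Nat.card H := Nat.card_congr (subgroupOfEquivOfLe hle).toEquiv
    have T : Sylow p H' := default
    obtain ⟨Q₂, hQ₂⟩ := (T.2.map H'.subtype).exists_le_sylow
    obtain ⟨k, hk⟩ := MulAction.exists_smul_eq K Q Q₂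
    have h1 : (T : Subgroup H').map H'.subtype ≤ H' ⊓ MulAut.conj k • (Q : Subgroup K) :=
      le_inf (map_subtype_le _) (by rw [← Sylow.coe_subgroup_smul, hk]; exact hQ₂)
    have h2 : H' ⊓ MulAut.conj k • (Q : Subgroup K) = MulAut.conj k • (H' ⊓ (Q : Subgroup K)) := by
      rw [smul_inf]
      congr 1
      exact (mem_normalizer_iff_smul.mp (by rw [normalizer_eq_top]; exact mem_top k)).symm
    have h3 := card_le_of_le (h1.trans_eq h2)
    rw [card_map_of_injective H'.subtype_injective, T.card_eq_multiplicity, hc',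
      Nat.card_congr (equivSMul (MulAut.conj k) (H' ⊓ (Q : Subgroup K))).symm.toEquiv] at h3
    have h4 : (H' ⊓ (Q : Subgroup K)).map K.subtype = H ⊓ (S : Subgroup G) := by
      rw [map_inf _ _ _ K.subtype_injective, hH', hQ, Sylow.coe_ofCard, subgroupOf_map_subtype,
        subgroupOf_map_subtype, inf_of_le_left hle]
      exact le_antisymm (inf_le_inf_left H inf_le_left)
        (le_inf inf_le_left (le_inf inf_le_right (inf_le_left.trans hle)))
    refine le_antisymm ?_ (h3.trans_eq ?_)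
    · obtain ⟨i, hi⟩ := IsPGroup.iff_card.mp (S.2.to_inf_right (H := H))
      rw [hi]
      refine Nat.pow_le_pow_right (Fact.out : p.Prime).pos ?_
      rw [← (Fact.out : p.Prime).pow_dvd_iff_le_factorization Nat.card_pos.ne', ← hi]
      exact card_dvd_of_le inf_le_left
    · rw [← h4, card_map_of_injective K.subtype_injective]

theorem exists_sylow_eq_subgroupOf {G : Type u} [Group G] [Finite G] (p : ℕ) [Fact p.Prime]
    {H : Subgroup G} (hH : H.IsSubnormal) (S : Sylow p G) :
    ∃ Q : Sylow p H, (Q : Subgroup H) = (S : Subgroup G).subgroupOf H := by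
  have h : Nat.card ((S : Subgroup G).subgroupOf H) = p ^ (Nat.card H).factorization p := by
    rw [← card_map_of_injective H.subtype_injective, subgroupOf_map_subtype, inf_comm]
    exact card_inf_sylow p hH S
  exact ⟨Sylow.ofCard _ h, Sylow.coe_ofCard _ h⟩

end CfsgLib.Subnormal
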