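import Mathlib.GroupTheory.IsSubnormal
import Mathlib.GroupTheory.QuotientGroup.Basic
import Mathlib.GroupTheory.Index
import Mathlib.GroupTheory.Sylow

/-!
Wielandt: in a finite group every minimal normal subgroup normalizes every subnormal subgroup.
-/

namespace CfsgLib.Subnormal

universe u

private theorem aux : ∀ (n : ℕ) {G : Type u} [Group G] [Finite G] (_ : Nat.card G ≤ n)
    (A : Subgroup G) (_ : A.Normal) (_ : A ≠ ⊥)
    (_ : ∀ B : Subgroup G, B.Normal → B ≠ ⊥ → B ≤ A → B = A)
    {S : Subgroup G} (_ : S.IsSubnormal), A ≤ Subgroup.normalizer (S : Set G) := by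
  intro n
  induction n with
  | zero => intro G _ _ hcard; have := Nat.card_pos (α := G); omega
  | succ n ih =>
  intro G _ _ hcard A hA hA0 hmin S hS
  rcases hS.lt_normal with rfl | ⟨K, hK, hSK, hKlt⟩
  · intro a _
    rw [Subgroup.mem_normalizer_iff]
    simp
  have := hA
  have := hK
  by_cases hAK : A ⊓ K = ⊥
  · intro a ha
    have hdis : Disjoint A K := disjoint_iff.mpr hAK
    have hcomm : ∀ z ∈ K, a * z * a⁻¹ = z := fun z hz => by
      rw [(Subgroup.commute_of_normal_of_disjoint A K hA hK hdis a z ha hz).eq, mul_inv_cancel_right]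
    rw [Subgroup.mem_normalizer_iff]
    intro z
    constructor
    · intro hz
      rw [hcomm z (hSK hz)]
      exact hz
    · intro hz
      have h2 : z ∈ K := by
        have := hK.conj_mem _ (hSK hz) a⁻¹
        simpa [mul_assoc] using this
      rwa [hcomm z h2] at hz
  have hAleK : A ≤ K := by
    have := hmin (A ⊓ K) inferInstance hAK inf_le_left
    exact this ▸ inf_le_right
  obtain ⟨B, ⟨hB0, hBA, hBK⟩, hBmin⟩ := Set.Finite.exists_minimal (Set.toFinite
    {B : Subgroup G | B ≠ ⊥ ∧ B ≤ A ∧ K ≤ Subgroup.normalizer (B : Set G)})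
    ⟨A, hA0, le_rfl, by rw [Subgroup.normalizer_eq_top A]; exact le_top⟩
  have hcardK : Nat.card K ≤ n := by
    have h1 : Nat.card K < Nat.card G := by
      refine lt_of_le_of_ne (Subgroup.card_le_card_group K) fun h => hKlt.ne ?_
      exact Subgroup.eq_top_of_card_eq K h
    omega
  have hSK' : (S.subgroupOf K).IsSubnormal := hS.subgroupOf
  have hsub : ∀ g : G, ∀ b ∈ B, g * b * g⁻¹ ∈ Subgroup.normalizer (S : Set G) := by
    intro g b hb
    let B' : Subgroup G := B.map (MulAut.conj g).toMonoidHom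
    have hB'A : B' ≤ A := by
      rintro z ⟨w, hw, rfl⟩
      exact hA.conj_mem w (hBA hw) g
    have hB'n : (B'.subgroupOf K).Normal := by
      refine ⟨fun x hx k => ?_⟩
      obtain ⟨w, hw, hwx⟩ := Subgroup.mem_subgroupOf.mp hx
      have hk' : g⁻¹ * (k : G) * g ∈ Subgroup.normalizer (B : Set G) := by
        refine hBK ?_
        have := hK.conj_mem (k : G) k.2 g⁻¹
        simpa using this
      have h3 := (Subgroup.mem_normalizer_iff.mp hk' w).mp hw
      refine Subgroup.mem_subgroupOf.mpr ⟨_, h3, ?_⟩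
      simp only [MulEquiv.coe_toMonoidHom, MulAut.conj_apply] at hwx ⊢
      simp [← hwx, mul_assoc]
    have hB'0 : B'.subgroupOf K ≠ ⊥ := by
      intro h
      have h1 : B'.subgroupOf K = ⊥ := h
      rw [Subgroup.subgroupOf_eq_bot, disjoint_iff, inf_eq_left.mpr (hB'A.trans hAleK)] at h1
      exact hB0 ((Subgroup.map_eq_bot_iff_of_injective _ (MulAut.conj g).injective).mp h1)
    have hB'min : ∀ C : Subgroup K, C.Normal → C ≠ ⊥ → C ≤ B'.subgroupOf K → C = B'.subgroupOf K := by
      intro C hC hC0 hCB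
      let C' : Subgroup G := (C.map K.subtype).map (MulAut.conj g⁻¹).toMonoidHom
      have hC'B : C' ≤ B := by
        rintro z ⟨y, ⟨c, hc, rfl⟩, rfl⟩
        obtain ⟨w, hw, hwc⟩ := Subgroup.mem_subgroupOf.mp (hCB hc)
        simp only [MulEquiv.coe_toMonoidHom, MulAut.conj_apply, Subgroup.coe_subtype] at hwc ⊢
        simpa [← hwc, mul_assoc] using hw
      have hC'mem : C' ∈ {B : Subgroup G | B ≠ ⊥ ∧ B ≤ A ∧ K ≤ Subgroup.normalizer (B : Set G)} := by
        refine ⟨?_, hC'B.trans hBA, ?_⟩
        · intro h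
          refine hC0 ((Subgroup.map_eq_bot_iff_of_injective _ K.subtype_injective).mp
            ((Subgroup.map_eq_bot_iff_of_injective _ (MulAut.conj g⁻¹).injective).mp h))
        · have hmap : ∀ k ∈ K, ∀ z ∈ C', k * z * k⁻¹ ∈ C' := by
            rintro k hk z ⟨y, ⟨c, hc, rfl⟩, rfl⟩
            have hk' : g * k * g⁻¹ ∈ K := hK.conj_mem k hk g
            refine ⟨_, ⟨_, hC.conj_mem c hc ⟨_, hk'⟩, rfl⟩, ?_⟩
            simp [mul_assoc]
          intro k hk
          rw [Subgroup.mem_normalizer_iff]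
          intro z
          refine ⟨hmap k hk z, fun hz => ?_⟩
          have := hmap k⁻¹ (inv_mem hk) _ hz
          simpa [mul_assoc] using this
      refine le_antisymm hCB fun x hx => ?_
      obtain ⟨w, hw, hwx⟩ := Subgroup.mem_subgroupOf.mp hx
      obtain ⟨y, ⟨c, hc, rfl⟩, hcw⟩ := hBmin hC'mem hC'B hw
      simp only [MulEquiv.coe_toMonoidHom, MulAut.conj_apply, Subgroup.coe_subtype] at hwx hcw
      have : x = c := Subtype.ext (by rw [← hwx, ← hcw]; simp [mul_assoc])
      rwa [this]
    have h4 := ih hcardK (B'.subgroupOf K) hB'n hB'0 hB'min hSK'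
    have h5 : g * b * g⁻¹ ∈ B' := ⟨b, hb, rfl⟩
    have h6 := h4 (show (⟨_, hAleK (hB'A h5)⟩ : K) ∈ B'.subgroupOf K from h5)
    rw [Subgroup.mem_normalizer_iff] at h6 ⊢
    intro z
    constructor
    · intro hz
      exact (h6 ⟨z, hSK hz⟩).mp hz
    · intro hz
      have h2 : z ∈ K := by
        have := hK.conj_mem _ (hSK hz) (g * b * g⁻¹)⁻¹
        simpa [mul_assoc] using this
      exact (h6 ⟨z, h2⟩).mpr hz
  have hle : Subgroup.normalClosure (B : Set G) ≤ Subgroup.normalizer (S : Set G) := by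
    refine (Subgroup.closure_le _).mpr fun z hz => ?_
    obtain ⟨w, hw, hwz⟩ := Group.mem_conjugatesOfSet_iff.mp hz
    obtain ⟨g, rfl⟩ := isConj_iff.mp hwz
    exact hsub g w hw
  have heq : Subgroup.normalClosure (B : Set G) = A := by
    refine hmin _ Subgroup.normalClosure_normal ?_ (Subgroup.normalClosure_le_normal hBA)
    intro h
    exact hB0 (eq_bot_iff.mpr (Subgroup.subset_normalClosure.trans (le_of_eq (congrArg SetLike.coe h))))
  exact heq ▸ hle

/-- **Wielandt.** A minimal normal subgroup normalizes every subnormal subgroup. -/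
theorem minimalNormal_le_normalizer {G : Type u} [Group G] [Finite G]
    (A : Subgroup G) (hA : A.Normal) (hA0 : A ≠ ⊥)
    (hmin : ∀ B : Subgroup G, B.Normal → B ≠ ⊥ → B ≤ A → B = A)
    {S : Subgroup G} (hS : S.IsSubnormal) : A ≤ Subgroup.normalizer (S : Set G) :=
  aux (Nat.card G) le_rfl A hA hA0 hmin hS

end CfsgLib.Subnormal
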