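import Mathlib.GroupTheory.IsSubnormal
import Mathlib.Data.Fintype.Order
import Mathlib.Data.SetLike.Fintype
import Mathlib.Order.Atoms.Finite
import Mathlib.GroupTheory.QuotientGroup.Basic
import Mathlib.Algebra.Group.Subgroup.Pointwise
import Mathlib.SetTheory.Cardinal.Finite
import Mathlib.GroupTheory.Index
import Mathlib.Tactic.Group
import Mathlib.Algebra.Group.Subgroup.Finite

/-!
Wielandt's zipper lemma and the join of two subnormal subgroups one of which normalises the other.
-/

set_option autoImplicit false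
open scoped Pointwise

namespace CfsgLib.Subnormal.Zipper

variable {G : Type*} [Group G]

/-- Subnormality inside a subgroup is transitive. -/
theorem subgroupOf_trans {A L K : Subgroup G} (hAL : A ≤ L) (hLK : L ≤ K)
    (h1 : (A.subgroupOf L).IsSubnormal) (h2 : (L.subgroupOf K).IsSubnormal) :
    (A.subgroupOf K).IsSubnormal :=
  Subgroup.IsSubnormal.trans (K := L.subgroupOf K) (Subgroup.comap_mono hAL)
    (h1.comap (Subgroup.subgroupOfEquivOfLe hLK).toMonoidHom) h2

theorem conj_smul_eq_self_of_mem_normalizer {H : Subgroup G} {g : G}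
    (h : g ∈ Subgroup.normalizer (H : Set G)) : MulAut.conj g • H = H :=
  Subgroup.mem_normalizer_iff_map_conj_eq.1 h

theorem mem_normalizer_of_conj_smul_eq {H : Subgroup G} {g : G}
    (h : MulAut.conj g • H = H) : g ∈ Subgroup.normalizer (H : Set G) :=
  Subgroup.mem_normalizer_iff_map_conj_eq.2 h

theorem sup_subgroupOf_isSubnormal [Finite G] {A B : Subgroup G} (hA : A.IsSubnormal)
    (hB : B.IsSubnormal) (hBA : B ≤ Subgroup.normalizer (A : Set G)) :
    ∀ L : Subgroup G, A ≤ L → B ≤ Subgroup.normalizer (L : Set G) →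
      ((A ⊔ B).subgroupOf (L ⊔ B)).IsSubnormal := by
  intro L
  induction L using WellFoundedLT.induction with
  | _ L ih =>
    intro hAL hBL
    rcases eq_or_lt_of_le hAL with rfl | hlt
    · rw [Subgroup.subgroupOf_self]; exact .top
    obtain ⟨K, hKn, hAK, hKlt⟩ := (hA.subgroupOf (K := L)).exists_normal_and_le_and_lt_top_of_ne
      (fun h => hlt.not_ge (Subgroup.subgroupOf_eq_top.1 h))
    let L1 : Subgroup G := ⨆ l : L, MulAut.conj (l : G) • A
    have hAL1 : A ≤ L1 :=
      le_trans (by rw [OneMemClass.coe_one, map_one, one_smul]) (le_iSup _ (1 : L))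
    have hL1K : L1 ≤ K.map L.subtype := iSup_le fun l => by
      rintro x ⟨a, ha, rfl⟩
      exact ⟨l * ⟨a, hAL ha⟩ * l⁻¹, hKn.conj_mem _ (hAK ha) l, rfl⟩
    have hL1L : L1 < L := by
      refine lt_of_le_of_lt hL1K (lt_of_le_of_ne (Subgroup.map_subtype_le K) fun h => hKlt.ne ?_)
      apply Subgroup.map_injective L.subtype_injective
      rw [h, ← MonoidHom.range_eq_map, Subgroup.range_subtype]
    have hnormL : L ≤ Subgroup.normalizer (L1 : Set G) := fun g hg => by
      apply mem_normalizer_of_conj_smul_eq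
      rw [show MulAut.conj g • L1 = ⨆ l : L, MulAut.conj g • MulAut.conj (l : G) • A from
        Subgroup.map_iSup _ _]
      refine Equiv.iSup_congr (Equiv.mulLeft (⟨g, hg⟩ : L)) fun l => ?_
      rw [smul_smul, ← map_mul]
      rfl
    have hnormB : B ≤ Subgroup.normalizer (L1 : Set G) := fun b hb => by
      apply mem_normalizer_of_conj_smul_eq
      rw [show MulAut.conj b • L1 = ⨆ l : L, MulAut.conj b • MulAut.conj (l : G) • A from
        Subgroup.map_iSup _ _]
      let e : L ≃ L :=
        { toFun := fun l => ⟨b * l * b⁻¹, (Subgroup.mem_normalizer_iff.1 (hBL hb) l).1 l.2⟩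
          invFun := fun l => ⟨b⁻¹ * l * b, by
            simpa using (Subgroup.mem_normalizer_iff.1 (inv_mem (hBL hb)) l).1 l.2⟩
          left_inv := fun l => Subtype.ext (by group)
          right_inv := fun l => Subtype.ext (by group) }
      refine Equiv.iSup_congr e fun l => ?_
      change MulAut.conj (b * l * b⁻¹) • A = MulAut.conj b • MulAut.conj (l : G) • A
      rw [map_mul, map_mul, ← smul_smul, ← smul_smul,
        conj_smul_eq_self_of_mem_normalizer (inv_mem (hBA hb))]
    have h1 := ih L1 hL1L hAL1 hnormB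
    refine subgroupOf_trans (sup_le_sup_right hAL1 B) (sup_le_sup_right hL1L.le B) h1 ?_
    have hN : (L1.subgroupOf (L ⊔ B)).Normal :=
      Subgroup.normal_subgroupOf_of_le_normalizer (sup_le hnormL hnormB)
    have h2 := ((hB.subgroupOf (K := L ⊔ B)).quotient (K := L1.subgroupOf (L ⊔ B))).comap
      (QuotientGroup.mk' _)
    rw [Subgroup.comap_map_eq, QuotientGroup.ker_mk',
      ← Subgroup.subgroupOf_sup le_sup_right (hL1L.le.trans le_sup_left), sup_comm B L1] at h2
    exact h2

/-- The join of two subnormal subgroups, one normalising the other, is subnormal. -/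
theorem isSubnormal_sup_of_le_normalizer [Finite G] {A B : Subgroup G} (hA : A.IsSubnormal)
    (hB : B.IsSubnormal) (hBA : B ≤ Subgroup.normalizer (A : Set G)) : (A ⊔ B).IsSubnormal := by
  have h := sup_subgroupOf_isSubnormal hA hB hBA ⊤ le_top
    (by rw [Subgroup.normalizer_eq_top]; exact le_top)
  rw [top_sup_eq] at h
  exact Subgroup.IsSubnormal.trans le_top h .top

/-- A subnormal, non-normal subgroup of `H` has a conjugate in `H`, different from it, such that
the two normalise each other. -/
theorem exists_conj_normalizing [Finite G] {A : Subgroup G} :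
    ∀ H : Subgroup G, A ≤ H → (A.subgroupOf H).IsSubnormal →
      ¬ H ≤ Subgroup.normalizer (A : Set G) →
      ∃ x ∈ H, x ∉ Subgroup.normalizer (A : Set G) ∧
        MulAut.conj x • A ≤ Subgroup.normalizer (A : Set G) ∧
        A ≤ Subgroup.normalizer ((MulAut.conj x • A : Subgroup G) : Set G) := by
  intro H
  induction H using WellFoundedLT.induction with
  | _ H ih =>
    intro hAH hsn hnn
    have hne : A.subgroupOf H ≠ ⊤ := fun h => hnn ((Subgroup.subgroupOf_eq_top.1 h).trans
      Subgroup.le_normalizer)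
    obtain ⟨K, hKn, hAK, hKlt⟩ := hsn.exists_normal_and_le_and_lt_top_of_ne hne
    set K' : Subgroup G := K.map H.subtype with hK'
    have hK'H : K' ≤ H := Subgroup.map_subtype_le K
    have hlt : K' < H := lt_of_le_of_ne hK'H fun h => hKlt.ne (by
      apply Subgroup.map_injective H.subtype_injective
      rw [← hK', h, ← MonoidHom.range_eq_map, Subgroup.range_subtype])
    have hAK' : A ≤ K' := fun a ha => ⟨⟨a, hAH ha⟩, hAK ha, rfl⟩
    by_cases hK : K' ≤ Subgroup.normalizer (A : Set G)
    · obtain ⟨x, hxH, hxN⟩ := SetLike.not_le_iff_exists.1 hnn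
      have hxK : MulAut.conj x • K' = K' := by
        apply conj_smul_eq_self_of_mem_normalizer
        have : H ≤ Subgroup.normalizer (K' : Set G) := by
          have := Subgroup.le_normalizer_map (H := K) H.subtype
          rw [Subgroup.normalizer_eq_top, ← MonoidHom.range_eq_map, Subgroup.range_subtype] at this
          exact this
        exact this hxH
      refine ⟨x, hxH, hxN, ?_, ?_⟩
      · refine le_trans ?_ hK
        rw [← hxK]
        exact Subgroup.pointwise_smul_le_pointwise_smul_iff.2 hAK'
      · refine le_trans (le_of_le_of_eq hAK' hxK.symm : A ≤ MulAut.conj x • K') ?_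
        refine (Subgroup.map_mono hK).trans ?_
        exact Subgroup.le_normalizer_map _
    · obtain ⟨x, hx, h1⟩ := ih K' hlt hAK'
        ((hsn.comap (Subgroup.inclusion hK'H) :)) hK
      exact ⟨x, hK'H hx, h1⟩

/-- Wielandt's zipper lemma: a subgroup subnormal in all proper overgroups, but not in the whole
group, lies in only one maximal subgroup. -/
theorem unique_coatom [Finite G] : ∀ A : Subgroup G,
    (∀ H : Subgroup G, H ≠ ⊤ → A ≤ H → (A.subgroupOf H).IsSubnormal) → ¬ A.IsSubnormal →
    ∀ M₁ M₂ : Subgroup G, IsCoatom M₁ → IsCoatom M₂ → A ≤ M₁ → A ≤ M₂ → M₁ = M₂ := by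
  intro A
  induction A using WellFoundedGT.induction with
  | _ A ih =>
    intro hsub hnsn
    have hN : Subgroup.normalizer (A : Set G) ≠ ⊤ := fun h =>
      hnsn (Subgroup.Normal.isSubnormal (Subgroup.normalizer_eq_top_iff.1 h))
    obtain h | ⟨M, hM, hNM⟩ := eq_top_or_exists_le_coatom (Subgroup.normalizer (A : Set G))
    · exact absurd h hN
    suffices key : ∀ H : Subgroup G, IsCoatom H → A ≤ H → H = M by
      intro M₁ M₂ h1 h2 h3 h4
      rw [key M₁ h1 h3, key M₂ h2 h4]
    intro H hH hAH
    by_cases hn : H ≤ Subgroup.normalizer (A : Set G)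
    · exact ((hH.le_iff.1 (hn.trans hNM)).resolve_left hM.1).symm
    obtain ⟨x, hxH, hxN, hBA, hAB⟩ := exists_conj_normalizing H hAH (hsub H hH.1 hAH) hn
    set B : Subgroup G := MulAut.conj x • A with hB
    have hAD : A < A ⊔ B := by
      refine left_lt_sup.2 fun hle => hxN (mem_normalizer_of_conj_smul_eq ?_)
      exact Subgroup.eq_of_le_of_card_ge hle
        (Nat.card_congr (Subgroup.equivSMul (MulAut.conj x) A).toEquiv).le
    have hDN : A ⊔ B ≤ Subgroup.normalizer (A : Set G) := sup_le Subgroup.le_normalizer hBA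
    have hDH : A ⊔ B ≤ H := sup_le hAH (by
      rintro y ⟨a, ha, rfl⟩
      exact H.mul_mem (H.mul_mem hxH (hAH ha)) (H.inv_mem hxH))
    have hsubB : ∀ K : Subgroup G, K ≠ ⊤ → B ≤ K → (B.subgroupOf K).IsSubnormal := by
      intro K hK hBK
      have h1 : A ≤ MulAut.conj x⁻¹ • K := by
        rw [map_inv, ← Subgroup.pointwise_smul_le_pointwise_smul_iff (a := MulAut.conj x),
          smul_inv_smul]
        exact hBK
      have h2 : MulAut.conj x⁻¹ • K ≠ ⊤ := fun h => hK (top_le_iff.1 fun y _ => by
        have hy : x⁻¹ * y * x ∈ MulAut.conj x⁻¹ • K := h ▸ Subgroup.mem_top _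
        rw [map_inv, Subgroup.mem_inv_pointwise_smul_iff] at hy
        simpa [MulAut.smul_def, mul_assoc] using hy)
      have h3 := hsub _ h2 h1
      let f : K →* (MulAut.conj x⁻¹ • K : Subgroup G) :=
        (Subgroup.equivSMul (MulAut.conj x⁻¹) K).toMonoidHom
      have h4 := h3.comap f
      have h5 : (A.subgroupOf (MulAut.conj x⁻¹ • K)).comap f = B.subgroupOf K := by
        ext k
        change (MulAut.conj x⁻¹) (k : G) ∈ A ↔ (k : G) ∈ B
        rw [hB, Subgroup.mem_pointwise_smul_iff_inv_smul_mem, map_inv]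
        rfl
      rwa [h5] at h4
    have hsubD : ∀ K : Subgroup G, K ≠ ⊤ → A ⊔ B ≤ K → ((A ⊔ B).subgroupOf K).IsSubnormal := by
      intro K hK hDK
      have hA' : A ≤ K := le_sup_left.trans hDK
      have hB' : B ≤ K := le_sup_right.trans hDK
      rw [Subgroup.subgroupOf_sup hA' hB']
      refine isSubnormal_sup_of_le_normalizer (hsub K hK hA') (hsubB K hK hB') ?_
      rw [← Subgroup.subgroupOf_normalizer_eq hA']
      exact Subgroup.comap_mono hBA
    have hDnsn : ¬ (A ⊔ B).IsSubnormal := fun h => hnsn (Subgroup.IsSubnormal.trans le_sup_left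
      (Subgroup.Normal.isSubnormal (Subgroup.normal_subgroupOf_of_le_normalizer hDN)) h)
    exact ih _ hAD hsubD hDnsn H M hH hM hDH (hDN.trans hNM)

end CfsgLib.Subnormal.Zipper
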