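import Cfsg.Agent.Lib.Subnormal.Join

/-!
Wielandt's subnormality criterion.
-/

set_option autoImplicit false
set_option linter.style.haveILetI false

open Subgroup
open scoped Pointwise

namespace CfsgLib.Subnormal

universe u

theorem conj_mem_iff_criterion {G : Type u} [Group G] {g x : G} {H : Subgroup G} :
    x ∈ MulAut.conj g • H ↔ g⁻¹ * x * g ∈ H := by
  rw [Subgroup.mem_pointwise_smul_iff_inv_smul_mem]
  simp [MulAut.smul_def]

/-- The hypothesis of Wielandt's criterion passes to overgroups. -/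
theorem criterion_subgroupOf {G : Type u} [Group G] {A V : Subgroup G} (hAV : A ≤ V)
    (h : ∀ g : G, (A.subgroupOf (A ⊔ MulAut.conj g • A)).IsSubnormal) (g : V) :
    ((A.subgroupOf V).subgroupOf
      (A.subgroupOf V ⊔ MulAut.conj g • A.subgroupOf V)).IsSubnormal := by
  have hle : (A.subgroupOf V ⊔ MulAut.conj g • A.subgroupOf V) ≤
      (A ⊔ MulAut.conj (g : G) • A).subgroupOf V := by
    refine sup_le (comap_mono le_sup_left) fun x hx => ?_
    rw [mem_subgroupOf]
    refine mem_sup_right (conj_mem_iff_criterion.2 ?_)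
    simpa [mem_subgroupOf] using conj_mem_iff_criterion.1 hx
  let f : (A.subgroupOf V ⊔ MulAut.conj g • A.subgroupOf V : Subgroup V) →*
      (A ⊔ MulAut.conj (g : G) • A : Subgroup G) :=
    { toFun := fun x => ⟨((x : V) : G), mem_subgroupOf.1 (hle x.2)⟩
      map_one' := rfl
      map_mul' := fun _ _ => rfl }
  exact (h (g : G)).comap f

/-- The hypothesis of Wielandt's criterion is invariant under conjugation. -/
theorem criterion_conj {G : Type u} [Group G] {A : Subgroup G} (c : G)
    (h : ∀ g : G, (A.subgroupOf (A ⊔ MulAut.conj g • A)).IsSubnormal) (g : G) :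
    ((MulAut.conj c • A).subgroupOf
      (MulAut.conj c • A ⊔ MulAut.conj g • (MulAut.conj c • A))).IsSubnormal := by
  set g' := c⁻¹ * g * c
  have hkey : MulAut.conj c • (A ⊔ MulAut.conj g' • A) =
      MulAut.conj c • A ⊔ MulAut.conj g • (MulAut.conj c • A) := by
    rw [Subgroup.smul_sup, smul_smul, smul_smul, ← map_mul, ← map_mul]
    congr 2
    simp [g', mul_assoc]
  let f : (MulAut.conj c • A ⊔ MulAut.conj g • (MulAut.conj c • A) : Subgroup G) →*
      (A ⊔ MulAut.conj g' • A : Subgroup G) :=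
    { toFun := fun x => ⟨c⁻¹ * x * c, conj_mem_iff_criterion.1 (hkey.symm.le x.2)⟩
      map_one' := Subtype.ext (by simp)
      map_mul' := fun x y => Subtype.ext (by simp [mul_assoc]) }
  have := (h g').comap f
  convert this using 1
  ext x
  simp only [mem_subgroupOf, mem_comap]
  exact conj_mem_iff_criterion

/-- Wielandt's subnormality criterion. -/
theorem isSubnormal_of_forall_conj_aux : ∀ (n : ℕ) (G : Type u) [Group G] [Finite G]
    (A : Subgroup G), Nat.card G ≤ n →
    (∀ g : G, (A.subgroupOf (A ⊔ MulAut.conj g • A)).IsSubnormal) → A.IsSubnormal := by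
  intro n
  induction n with
  | zero => intro G _ _ A hn; have := (Nat.card_pos : 0 < Nat.card G); omega
  | succ n ih =>
    intro G _ _ A hn h
    have hproper : ∀ V : Subgroup G, V ≠ ⊤ → ∀ B : Subgroup G, B ≤ V →
        (∀ g : G, (B.subgroupOf (B ⊔ MulAut.conj g • B)).IsSubnormal) →
        (B.subgroupOf V).IsSubnormal := by
      intro V hV B hBV hB
      refine ih V _ ?_ (criterion_subgroupOf hBV hB)
      have hlt : Nat.card V < Nat.card G := by
        rcases (Subgroup.card_le_card_group V).lt_or_eq with hlt | heq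
        · exact hlt
        · exact absurd (Subgroup.eq_top_of_card_eq V heq) hV
      omega
    by_contra hsn
    have hA : A ≠ ⊤ := fun hA => hsn (hA ▸ IsSubnormal.top)
    let U : Set (Subgroup G) := {V | A ≤ V ∧ V ≠ ⊤}
    let S : Subgroup G → Set (Subgroup G) := fun V =>
      {B | (∃ g : G, B = MulAut.conj g • A) ∧ B ≤ V ∧ (B.subgroupOf V).IsSubnormal}
    obtain ⟨M, ⟨hAM, hM⟩, hgreat⟩ := exists_greatest A U ⟨A, le_rfl, hA⟩ S (fun V B => Iff.rfl)
      (by
        rintro V ⟨-, hV⟩ W - B ⟨⟨g, rfl⟩, -, -⟩ hBV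
        exact ⟨⟨g, rfl⟩, hBV, hproper V hV _ hBV (criterion_conj g h)⟩)
      (by
        rintro V ⟨hAV, hV⟩ W ⟨hAW, hW⟩
        have hmem : A ∈ S V ∩ S W :=
          ⟨⟨⟨1, by rw [map_one, one_smul]⟩, hAV, hproper V hV A hAV h⟩,
            ⟨⟨1, by rw [map_one, one_smul]⟩, hAW, hproper W hW A hAW h⟩⟩
        have hAT : A ≤ sSup (S V ∩ S W) := le_sSup hmem
        refine ⟨_, ⟨le_trans hAT le_normalizer, fun htop => hsn ?_⟩, le_rfl⟩
        have hTV : sSup (S V ∩ S W) ≤ V := sSup_le fun B hB => hB.1.2.1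
        have hT : sSup (S V ∩ S W) ≠ ⊤ := fun e => hV (top_le_iff.1 (e ▸ hTV))
        exact IsSubnormal.trans hAT (hproper _ hT A hAT h)
          (normalizer_eq_top_iff.1 htop).isSubnormal)
    have hle : ∀ g : G, MulAut.conj g • A ≤ M := by
      intro g
      refine le_trans le_sup_right (hgreat (A ⊔ MulAut.conj g • A) ⟨le_sup_left, fun htop => hsn ?_⟩)
      exact IsSubnormal.trans le_sup_left (h g) (htop ▸ IsSubnormal.top)
    have hcl : normalClosure (A : Set G) ≤ M := by
      rw [normalClosure, closure_le]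
      intro y hy
      obtain ⟨a, ha, hay⟩ := Group.mem_conjugatesOfSet_iff.1 hy
      obtain ⟨g, rfl⟩ := isConj_iff.1 hay
      exact hle g (conj_mem_iff_criterion.2 (by simpa [mul_assoc] using ha))
    have hne : normalClosure (A : Set G) ≠ ⊤ := fun e => hM (top_le_iff.1 (e ▸ hcl))
    exact hsn (IsSubnormal.trans subset_normalClosure (hproper _ hne A subset_normalClosure h)
      normalClosure_normal.isSubnormal)

theorem isSubnormal_of_forall_conj {G : Type u} [Group G] [Finite G] (A : Subgroup G)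
    (h : ∀ g : G, (A.subgroupOf (A ⊔ MulAut.conj g • A)).IsSubnormal) : A.IsSubnormal :=
  isSubnormal_of_forall_conj_aux _ G A le_rfl h

end CfsgLib.Subnormal
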